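import Cfsg.Agent.H439.Der.Tools
import Cfsg.Agent.H217.Odm.Real_m3
import Cfsg.Agent.H180.MElBig
import Cfsg.Agent.H729.PairMathieu
import Cfsg.Agent.S2063
import Cfsg.Agent.S2064
import Cfsg.Agent.H348.Der.Class
import Cfsg.Agent.H836.Sylow
import Cfsg.Agent.H710.VanCount
import Cfsg.Agent.FastGrp
import Cfsg.Agent.Prune
set_option linter.all false

section
prune_inst 0x7f00000000000000000000000000000000000000000000000000000000000000000000000000000000000000000000000000000000000000000000000000000000000000000000000000000000000000003fffffffffffffffffffffffffffbeffbdffffffff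

-- part: H870/Der/Tool2
section
set_option linter.all false
open scoped Cfsg.Agent.FastGrp

-- part: H870/Der/Tool
section
/-!
# Sporadic rows of S3500: tools (helper870)

* `exists_conj` : `|Out T| = 1`, every automorphism is inner
* `not_SC_of_cent` : an element of order `v` whose centralizer order is divisible by another prime
* `not_SC_of_self` : a self-centralising element of order `v`, `|Out T| = 1`, `(|T| / v) % v < v - 1`
* `SitB` : a proper subgroup of order divisible by `r`, `r ∥ |T|`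
-/

set_option autoImplicit false

namespace Cfsg.Agent.H870.Der

open Subgroup Cfsg.Agent.H439.Der Cfsg.Agent.H257.El Cfsg.Agent.OrdDiv

universe u

section

variable {T : Type*} [Group T]

theorem exists_conj (h : Nat.card (Cfsg.Out T) = 1) (φ : T ≃* T) : ∃ g : T, ∀ x, φ x = g * x * g⁻¹ := by
  have hs : Subsingleton (Cfsg.Out T) := (Nat.card_eq_one_iff_unique.1 h).1
  have h1 : (QuotientGroup.mk (φ : MulAut T) : Cfsg.Out T) = 1 := Subsingleton.elim _ _
  obtain ⟨g, hg⟩ := (QuotientGroup.eq_one_iff _).1 h1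
  refine ⟨g, fun x => ?_⟩
  have := congrArg (fun f : MulAut T => f x) hg
  exact this.symm

/-- an element whose order is a proper multiple of `v` -/
theorem not_SC_of_mul [Finite T] {v n : ℕ} (hv : v.Prime) {y : T} (hy : orderOf y = n) (hd : v ∣ n) (hne : n ≠ v) :
    ¬ SC T v := not_SC_of_orderOf hv (by rw [hy]; exact hd) (by rw [hy]; exact hne)

/-- a self-centralising element -/
theorem not_SC_of_self [Finite T] {v : ℕ} (hv : v.Prime) (h2 : ¬ v ^ 2 ∣ Nat.card T) (hne : Nat.card T ≠ v)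
    (hO : Nat.card (Cfsg.Out T) = 1) {x : T} (hx : orderOf x = v)
    (hC : Nat.card (centralizer ({x} : Set T)) = v) (hlt : (Nat.card T / v) % v < v - 1) : ¬ SC T v := by
  obtain ⟨h1, -⟩ := card_norm_mod hv h2 hne hC
  refine not_SC_of_lt hv hx hC (n := (Nat.card T / v) % v) (o := 1) ?_ hO.le (by omega)
  rw [h1, mul_comm]

/-- two missing classes of elements of orders `a` and `b` -/
theorem two_of_orders {M : Subgroup T} {a b : ℕ} (hab : a ≠ b) (hx : ∃ x : T, orderOf x = a) (hy : ∃ x : T, orderOf x = b)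
    (ha : ∀ m : M, orderOf m ≠ a) (hb : ∀ m : M, orderOf m ≠ b) : Two T M := by
  obtain ⟨x, hx⟩ := hx
  obtain ⟨y, hy⟩ := hy
  refine Two.of_orders hab hx hy (fun m hm h => ha ⟨m, hm⟩ ?_) (fun m hm h => hb ⟨m, hm⟩ ?_)
  · rw [Subgroup.orderOf_mk, h]
  · rw [Subgroup.orderOf_mk, h]

end

variable {T : Type u} [Group T] [Finite T]

/-- A proper subgroup of order divisible by `r`. -/
structure SitB (T : Type u) [Group T] (n : ℕ) (l : List (ℕ × ℕ)) (r : ℕ) (R : Subgroup T) : Prop where
  tab : OrderTable.{u}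
  known : Known.{u}
  card : Nat.card T = n
  valid : valid l n = true
  prime : r.Prime
  dvdR : r ∣ Nat.card R
  sq : ¬ r ^ 2 ∣ n
  ne : R ≠ ⊤

namespace SitB

variable {n : ℕ} {l : List (ℕ × ℕ)} {r : ℕ} {R : Subgroup T}

omit [Finite T] in
theorem dvd_n (S : SitB T n l r R) : Nat.card R ∣ n := by
  rw [← S.card]
  exact Subgroup.card_subgroup_dvd_card R

omit [Finite T] in
theorem sqR (S : SitB T n l r R) : ¬ r ^ 2 ∣ Nat.card R := fun h => S.sq (h.trans S.dvd_n)

theorem card_lt (S : SitB T n l r R) : Nat.card R < n := by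
  rw [← S.card]
  refine lt_of_le_of_ne (Nat.le_of_dvd Nat.card_pos (Subgroup.card_subgroup_dvd_card R)) fun h => S.ne ?_
  exact Subgroup.eq_top_of_card_eq R h

theorem exists_top (S : SitB T n l r R) :
    ∃ (O : Subgroup R) (_ : O.Normal) (N : Subgroup (R ⧸ O)), _root_.Cfsg.Agent.H257.El.Top R r O N :=
  Cfsg.Agent.H257.El.exists_top S.prime S.dvdR S.sqR

variable {O : Subgroup R} [O.Normal] {N : Subgroup (R ⧸ O)}

/-- the primes not adjacent to `r` do not divide the order of the core -/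
theorem not_dvd_core (S : SitB T n l r R) (h : _root_.Cfsg.Agent.H257.El.Top R r O N) {s : ℕ} (hs : s.Prime) (hrs : r ≠ s)
    (hno : ∀ z : T, orderOf z ≠ r * s) (hok : okPow l r s = true) : ¬ s ∣ Nat.card O :=
  h.not_dvd_core hs hrs (SitA.noR hno) fun _ hb hd => okPow_spec S.valid hok hs hb (hd.trans S.dvd_n)

/-- the primes not adjacent to `r` divide the order of the simple group at the top -/
theorem dvd_simple (S : SitB T n l r R) (h : _root_.Cfsg.Agent.H257.El.Top R r O N) {s : ℕ} (hs : s.Prime)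
    (hno : ∀ z : T, orderOf z ≠ r * s) (hok : okPair n l r s = true) (hsR : s ∣ Nat.card R) : s ∣ Nat.card N := by
  unfold okPair at hok
  rw [Bool.and_eq_true, Bool.and_eq_true, Bool.and_eq_true] at hok
  obtain ⟨⟨⟨h1, h2⟩, h3⟩, h4⟩ := hok
  have h1' : r ≠ s := by simpa using h1
  have h2' : ¬ s ∣ r - 1 := by
    intro hd
    rw [Nat.mod_eq_zero_of_dvd hd] at h2
    exact absurd h2 (by decide)
  exact h.dvd_simple hs h1' (SitA.noR hno) (fun _ hb hd => okPow_spec S.valid h4 hs hb (hd.trans S.dvd_n)) h2' hsR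

/-- a non-commutative `N` is in the list -/
theorem exists_surv (S : SitB T n l r R) (h : _root_.Cfsg.Agent.H257.El.Top R r O N) (hna : ¬ ∀ a b : N, a * b = b * a) (ss : List ℕ)
    (hss : ∀ s ∈ ss, s ∣ Nat.card N) : ∃ g ∈ surv n l r ss, Real g N ∧ Nat.card N = ordN g := by
  have hsim := h.simple
  have hNR : Nat.card N ∣ Nat.card R := by
    refine (Subgroup.card_subgroup_dvd_card N).trans ?_
    rw [← card_quot_mul O]
    exact dvd_mul_right _ _
  have hNn : Nat.card N ∣ n := hNR.trans S.dvd_n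
  obtain ⟨g, hg, hr, hc⟩ := exists_good S.tab (S.known N) hna S.valid hNn
  refine ⟨g, List.mem_filter.2 ⟨hg, ?_⟩, hr, hc⟩
  unfold okG
  rw [Bool.and_eq_true, Bool.and_eq_true, List.all_eq_true]
  refine ⟨⟨?_, ?_⟩, fun s hs => ?_⟩
  · rw [← hc, Nat.mod_eq_zero_of_dvd h.dvd]; rfl
  · rw [← hc]
    have h1 : Nat.card N ≤ Nat.card R := Nat.le_of_dvd Nat.card_pos hNR
    have h2 := S.card_lt
    have h3 : Nat.card N ≠ n := by omega
    simpa only [_root_.bne_iff_ne, _root_.ne_eq] using h3
  · rw [← hc, Nat.mod_eq_zero_of_dvd (hss s hs)]; rfl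

/-- **the name of the simple group at the top if another prime `s`, not adjacent to `r`, divides `|R|`** -/
theorem exists_name (S : SitB T n l r R) {s : ℕ} (hs : s.Prime) (hrs : r ≠ s)
    (hno : ∀ z : T, orderOf z ≠ r * s) (hok : okPair n l r s = true) (hsR : s ∣ Nat.card R) :
    ∃ (O : Subgroup R) (_ : O.Normal) (N : Subgroup (R ⧸ O)), _root_.Cfsg.Agent.H257.El.Top R r O N ∧
      ∃ g ∈ surv n l r [s], Real g N ∧ Nat.card N = ordN g := by
  obtain ⟨O, hO, N, h⟩ := S.exists_top
  have h1 := S.dvd_simple h hs hno hok hsR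
  refine ⟨O, hO, N, h, S.exists_surv h (SitA.not_comm_of_dvd h hs hrs h1) [s] ?_⟩
  intro t ht
  rw [List.mem_singleton] at ht
  rw [ht]
  exact h1

end SitB

/-- the core is trivial if every prime divisor of its order is excluded -/
theorem eq_bot_of_not_dvd {R : Type*} [Group R] [Finite R] {O : Subgroup R} (h : ∀ s : ℕ, s.Prime → ¬ s ∣ Nat.card O) :
    O = ⊥ := by
  apply Subgroup.eq_bot_of_card_eq
  by_contra h1
  obtain ⟨s, hs, hd⟩ := Nat.exists_prime_and_dvd h1
  exact h s hs hd

/-- elements of order `k` prime to the index of `N` and to `|O|` give elements of order `k` of `N` -/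
theorem exists_of_top {R : Type*} [Group R] [Finite R] {O : Subgroup R} [O.Normal] {N : Subgroup (R ⧸ O)}
    [hN : N.Normal] {k : ℕ} (hk : Nat.Coprime k (Nat.card O)) (hi : Nat.Coprime k N.index) {z : R} (hz : orderOf z = k) :
    ∃ y : N, orderOf y = k := by
  have h1 : orderOf (QuotientGroup.mk' O z) = k := by
    apply Nat.dvd_antisymm
    · rw [← hz]; exact orderOf_map_dvd _ _
    · have h2 : z ^ orderOf (QuotientGroup.mk' O z) ∈ O := by
        have h3 : QuotientGroup.mk' O (z ^ orderOf (QuotientGroup.mk' O z)) = 1 := by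
          rw [map_pow, pow_orderOf_eq_one]
        exact (QuotientGroup.eq_one_iff _).1 h3
      have h3 : z ^ (orderOf (QuotientGroup.mk' O z) * Nat.card O) = 1 := by
        rw [pow_mul]
        have h4 : (⟨_, h2⟩ : O) ^ Nat.card O = 1 := pow_card_eq_one'
        exact congrArg Subtype.val h4
      have h4 := orderOf_dvd_of_pow_eq_one h3
      rw [hz] at h4
      exact hk.dvd_of_dvd_mul_right h4
  have h2 : QuotientGroup.mk' O z ∈ N := by
    have h3 : orderOf (QuotientGroup.mk' N (QuotientGroup.mk' O z)) = 1 := by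
      have h4 : orderOf (QuotientGroup.mk' N (QuotientGroup.mk' O z)) ∣ k := by
        rw [← h1]; exact orderOf_map_dvd _ _
      have h5 : orderOf (QuotientGroup.mk' N (QuotientGroup.mk' O z)) ∣ N.index := _root_.orderOf_dvd_natCard _
      exact Nat.eq_one_of_dvd_coprimes hi h4 h5
    exact (QuotientGroup.eq_one_iff _).1 (orderOf_eq_one_iff.1 h3)
  exact ⟨⟨_, h2⟩, by rw [Subgroup.orderOf_mk, h1]⟩

end Cfsg.Agent.H870.Der
end

-- part: H870/Der/MTF
section
/-!
# `M24` has no elements of order 22, 28, 30, `M22` has no elements of order 21 (helper870)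
-/

set_option autoImplicit false

namespace Cfsg.Agent.H870.Der.MTF

open Cfsg Equiv.Perm Cfsg.Agent.H180.MEl
open Cfsg.Agent.H866.InvolType (fx)

theorem no30 (z : M24) : orderOf z ≠ 30 := by
  intro hz
  have hz' : orderOf (z : Equiv.Perm GolayPt) = 30 := by rw [Subgroup.orderOf_coe, hz]
  set w : Equiv.Perm GolayPt := (z : Equiv.Perm GolayPt) with hw
  have m5 : w ^ 6 ∈ M24 := pow_mem z.2 6
  have m3 : w ^ 10 ∈ M24 := pow_mem z.2 10
  have m2 : w ^ 15 ∈ M24 := pow_mem z.2 15
  have o5 : orderOf (w ^ 6) = 5 := by rw [orderOf_pow_of_dvd (by norm_num) (by rw [hz']; norm_num), hz']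
  have o3 : orderOf (w ^ 10) = 3 := by rw [orderOf_pow_of_dvd (by norm_num) (by rw [hz']; norm_num), hz']
  have o2 : orderOf (w ^ 15) = 2 := by rw [orderOf_pow_of_dvd (by norm_num) (by rw [hz']; norm_num), hz']
  have c53 : Commute (w ^ 6) (w ^ 10) := (Commute.refl w).pow_pow 6 10
  have c25 : Commute (w ^ 15) (w ^ 6) := (Commute.refl w).pow_pow 15 6
  have c23 : Commute (w ^ 15) (w ^ 10) := (Commute.refl w).pow_pow 15 10
  have f5 := fx5 m5 o5
  have f3 := fx3 m3 o3
  have f2 := fx_of_five m2 m5 o2 o5 c25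
  have h3 := card_Fx_comm (p := 3) (x := w ^ 10) (y := w ^ 6) (by rw [← o3, pow_orderOf_eq_one]) c53.symm
  have h5 := card_Fx_comm (p := 5) (x := w ^ 6) (y := w ^ 10) (by rw [← o5, pow_orderOf_eq_one]) c53
  rw [Finset.inter_comm] at h3
  have h6 : (Fx (w ^ 6) ∩ Fx (w ^ 10)).card ≤ fx (w ^ 6) := Finset.card_le_card Finset.inter_subset_left
  have h1 : (Fx (w ^ 6) ∩ Fx (w ^ 10)).card = 1 := by
    rw [f5] at h3 h6
    unfold Nat.ModEq at h3 h5
    rcases f3 with f3 | f3 <;> rw [f3] at h5 <;> (clear * - h5 h6 h3; omega)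
  have h2 := card_mod (p := 2) (x := w ^ 15) (by rw [← o2, pow_orderOf_eq_one]) (Fx (w ^ 6) ∩ Fx (w ^ 10)) (by
    intro q hq
    rw [Finset.mem_inter, mem_Fx, mem_Fx] at hq ⊢
    constructor
    · calc (w ^ 6) ((w ^ 15) q) = (w ^ 15) ((w ^ 6) q) := congrArg (fun f : Equiv.Perm GolayPt => f q) c25.symm.eq
        _ = _ := by rw [hq.1]
    · calc (w ^ 10) ((w ^ 15) q) = (w ^ 15) ((w ^ 10) q) := congrArg (fun f : Equiv.Perm GolayPt => f q) c23.symm.eq
        _ = _ := by rw [hq.2])
  rw [← card_Fx, Finset.card_eq_zero] at f2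
  rw [f2, Finset.inter_empty, Finset.card_empty, h1] at h2
  exact absurd h2 (by decide)

theorem no28 (z : M24) : orderOf z ≠ 28 := by
  intro hz
  have hz' : orderOf (z : Equiv.Perm GolayPt) = 28 := by rw [Subgroup.orderOf_coe, hz]
  set w : Equiv.Perm GolayPt := (z : Equiv.Perm GolayPt) with hw
  have m7 : w ^ 4 ∈ M24 := pow_mem z.2 4
  have m2 : w ^ 14 ∈ M24 := pow_mem z.2 14
  have o7 : orderOf (w ^ 4) = 7 := by rw [orderOf_pow_of_dvd (by norm_num) (by rw [hz']; norm_num), hz']
  have o2 : orderOf (w ^ 14) = 2 := by rw [orderOf_pow_of_dvd (by norm_num) (by rw [hz']; norm_num), hz']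
  have c27 : Commute (w ^ 14) (w ^ 4) := (Commute.refl w).pow_pow 14 4
  have f7 := fx7 m7 o7
  have f2 := fx2 m2 o2
  have h2 := card_Fx_comm (p := 2) (x := w ^ 14) (y := w ^ 4) (by rw [← o2, pow_orderOf_eq_one]) c27
  have h7 := card_Fx_comm (p := 7) (x := w ^ 4) (y := w ^ 14) (by rw [← o7, pow_orderOf_eq_one]) c27.symm
  have h6 : (Fx (w ^ 4) ∩ Fx (w ^ 14)).card ≤ fx (w ^ 4) := Finset.card_le_card Finset.inter_subset_left
  rw [Finset.inter_comm] at h2
  have h1 : (Fx (w ^ 4) ∩ Fx (w ^ 14)).card = 1 := by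
    rw [f7] at h2 h6
    unfold Nat.ModEq at h2 h7
    rcases f2 with f2 | f2 <;> rw [f2] at h7 <;> (clear * - h7 h6 h2; omega)
  -- `v = w ^ 7` of order 4 acts on the three fixed points
  have h4 : (w ^ 7) ^ 4 = 1 := by rw [← pow_mul, show 7 * 4 = 28 from rfl, ← hz', pow_orderOf_eq_one]
  have hsub : Fx (w ^ 4) ⊆ Fx (w ^ 14) := by
    intro q hq
    by_contra hne
    rw [mem_Fx] at hq hne
    set v := w ^ 7 with hv
    have hvv : w ^ 14 = v * v := by rw [hv, ← pow_add]
    rw [hvv] at hne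
    have hne : v (v q) ≠ q := hne
    have hc : ∀ p, (w ^ 4) p = p → (w ^ 4) (v p) = v p := by
      intro p hp
      have := congrArg (fun f : Equiv.Perm GolayPt => f p) ((Commute.refl w).pow_pow 4 7).eq
      calc (w ^ 4) (v p) = v ((w ^ 4) p) := this
        _ = _ := by rw [hp]
    have hv4 : v (v (v (v q))) = q := by
      have := congrArg (fun f : Equiv.Perm GolayPt => f q) h4
      simpa only [pow_succ, _root_.pow_zero, _root_.one_mul, _root_.Equiv.Perm.coe_mul, _root_.Function.comp_apply, _root_.Equiv.Perm.coe_one, _root_.id_eq] using this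
    have hinj := v.injective
    have d1 : q ≠ v q := fun h => hne (by rw [← h, ← h])
    have d3 : q ≠ v (v (v q)) := fun h => d1 (by
      have := congrArg v h
      rw [hv4] at this
      exact this.symm)
    have hcard : ({q, v q, v (v q), v (v (v q))} : Finset GolayPt).card = 4 := by
      rw [Finset.card_insert_of_notMem, Finset.card_insert_of_notMem, Finset.card_insert_of_notMem,
        Finset.card_singleton]
      · rw [Finset.mem_singleton]
        exact fun h => d1 (hinj (hinj h))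
      · rw [Finset.mem_insert, Finset.mem_singleton]
        rintro (h | h)
        · exact d1 (hinj h)
        · exact hne (hinj h).symm
      · rw [Finset.mem_insert, Finset.mem_insert, Finset.mem_singleton]
        rintro (h | h | h)
        · exact d1 h
        · exact hne h.symm
        · exact d3 h
    have hle : ({q, v q, v (v q), v (v (v q))} : Finset GolayPt) ⊆ Fx (w ^ 4) := by
      intro p hp
      rw [Finset.mem_insert, Finset.mem_insert, Finset.mem_insert, Finset.mem_singleton] at hp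
      rw [mem_Fx]
      rcases hp with rfl | rfl | rfl | rfl
      · exact hq
      · exact hc _ hq
      · exact hc _ (hc _ hq)
      · exact hc _ (hc _ (hc _ hq))
    have := Finset.card_le_card hle
    rw [hcard, card_Fx, f7] at this
    omega
  rw [Finset.inter_eq_left.2 hsub, card_Fx, f7] at h1
  omega

theorem no22 (z : M24) : orderOf z ≠ 22 := by
  intro hz
  have o11 : orderOf (z ^ 2) = 11 := by rw [orderOf_pow_of_dvd (by norm_num) (by rw [hz]; norm_num), hz]
  have o2 : orderOf (z ^ 11) = 2 := by rw [orderOf_pow_of_dvd (by norm_num) (by rw [hz]; norm_num), hz]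
  have hc := Cfsg.Agent.H729.PairMathieu.card_cent_eleven o11
  have hm : z ^ 11 ∈ Subgroup.centralizer ({z ^ 2} : Set M24) :=
    Subgroup.mem_centralizer_singleton_iff.2 ((Commute.refl z).pow_pow 11 2)
  have h1 := Subgroup.orderOf_dvd_natCard _ hm
  rw [hc, o2] at h1
  norm_num at h1

/-- an element of order 21 of `M24` does not fix two points -/
theorem no21 (z : M24) (hz : orderOf z = 21) {a b : GolayPt} (hab : a ≠ b) (ha : (z : Equiv.Perm GolayPt) a = a)
    (hb : (z : Equiv.Perm GolayPt) b = b) : False := by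
  have hz' : orderOf (z : Equiv.Perm GolayPt) = 21 := by rw [Subgroup.orderOf_coe, hz]
  set w : Equiv.Perm GolayPt := (z : Equiv.Perm GolayPt) with hw
  have m7 : w ^ 3 ∈ M24 := pow_mem z.2 3
  have m3 : w ^ 7 ∈ M24 := pow_mem z.2 7
  have o7 : orderOf (w ^ 3) = 7 := by rw [orderOf_pow_of_dvd (by norm_num) (by rw [hz']; norm_num), hz']
  have o3 : orderOf (w ^ 7) = 3 := by rw [orderOf_pow_of_dvd (by norm_num) (by rw [hz']; norm_num), hz']
  have c : Commute (w ^ 3) (w ^ 7) := (Commute.refl w).pow_pow 3 7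
  have f7 := fx7 m7 o7
  have f3 := fx3 m3 o3
  have h3 := card_Fx_comm (p := 3) (x := w ^ 7) (y := w ^ 3) (by rw [← o3, pow_orderOf_eq_one]) c.symm
  have h7 := card_Fx_comm (p := 7) (x := w ^ 3) (y := w ^ 7) (by rw [← o7, pow_orderOf_eq_one]) c
  rw [Finset.inter_comm] at h3
  have h6 : (Fx (w ^ 3) ∩ Fx (w ^ 7)).card ≤ fx (w ^ 3) := Finset.card_le_card Finset.inter_subset_left
  have hfix : ∀ (n : ℕ) (p : GolayPt), w p = p → (w ^ n) p = p := by
    intro n p hp
    induction n with
    | zero => rfl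
    | succ n ih =>
      rw [pow_succ]
      show (w ^ n) (w p) = p
      rw [hp, ih]
  have h2 : 2 ≤ (Fx (w ^ 3) ∩ Fx (w ^ 7)).card := by
    have : ({a, b} : Finset GolayPt) ⊆ Fx (w ^ 3) ∩ Fx (w ^ 7) := by
      intro p hp
      rw [Finset.mem_insert, Finset.mem_singleton] at hp
      rw [Finset.mem_inter, mem_Fx, mem_Fx]
      rcases hp with rfl | rfl
      · exact ⟨hfix _ _ ha, hfix _ _ ha⟩
      · exact ⟨hfix _ _ hb, hfix _ _ hb⟩
    have h := Finset.card_le_card this
    rwa [Finset.card_pair hab] at h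
  rw [f7] at h3 h6
  unfold Nat.ModEq at h3 h7
  rcases f3 with f3 | f3 <;> rw [f3] at h7 <;> (clear * - h7 h6 h2; omega)

section

variable {G : Type*} [Group G]

theorem not_m24 (h : Spor.IsoM24 G) {k : ℕ} (hk : ∀ z : M24, orderOf z ≠ k) (z : G) : orderOf z ≠ k := by
  obtain ⟨e⟩ := h
  intro hz
  exact hk (e z) (by rw [← hz]; exact orderOf_injective e.toMonoidHom e.injective z)

theorem not_m23 (h : Spor.IsoM23 G) {k : ℕ} (hk : ∀ z : M24, orderOf z ≠ k) (z : G) : orderOf z ≠ k := by
  obtain ⟨e⟩ := h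
  intro hz
  refine hk ⟨((e z : Spor.M23) : Equiv.Perm GolayPt), (e z).2.1⟩ ?_
  rw [Subgroup.orderOf_mk, Subgroup.orderOf_coe, ← hz]
  exact orderOf_injective e.toMonoidHom e.injective z

theorem not_m22 (h : Spor.IsoM22 G) (z : G) : orderOf z ≠ 21 := by
  obtain ⟨e⟩ := h
  intro hz
  refine no21 ⟨((e z : Spor.M22) : Equiv.Perm GolayPt), (e z).2.1.1⟩ ?_ (a := none) (b := some 0) (by decide)
    (e z).2.1.2 (e z).2.2
  rw [Subgroup.orderOf_mk, Subgroup.orderOf_coe, ← hz]
  exact orderOf_injective e.toMonoidHom e.injective z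

end

end Cfsg.Agent.H870.Der.MTF
end

-- part: H870/Der/Tool2
section
/-!
# S3500: the simple group at the top has trivial outer automorphism group (helper870)
-/

set_option autoImplicit false

namespace Cfsg.Agent.H870.Der

open Subgroup Cfsg.Agent.H439.Der Cfsg.Agent.H257.El Cfsg.Agent.OrdDiv

universe u

section

variable {R : Type*} [Group R] [Finite R] {r : ℕ} {O : Subgroup R} [O.Normal] {N : Subgroup (R ⧸ O)}

/-- the centralizer of a non-commutative `N` is trivial -/
theorem centralizer_eq_bot (h : Top R r O N) (hna : ¬ ∀ a b : N, a * b = b * a) :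
    centralizer (N : Set (R ⧸ O)) = ⊥ := by
  have hN := h.normal
  have hsim := h.simple
  have hr := h.prime
  refine h.bot _ inferInstance fun hd => ?_
  set C := centralizer (N : Set (R ⧸ O)) with hC
  have hdis : N ⊓ C = ⊥ := by
    have h1 : ((N ⊓ C).subgroupOf N).Normal := inferInstance
    rcases h1.eq_bot_or_eq_top with h2 | h2
    · rw [Subgroup.subgroupOf_eq_bot, disjoint_iff] at h2
      rw [eq_bot_iff, ← h2]
      exact le_inf le_rfl inf_le_left
    · exfalso
      apply hna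
      intro a b
      rw [Subgroup.subgroupOf_eq_top] at h2
      have h3 : (a : R ⧸ O) ∈ centralizer (N : Set (R ⧸ O)) := (h2 a.2).2
      rw [mem_centralizer_iff] at h3
      exact Subtype.ext (h3 b b.2).symm
  have hdvd : Nat.card C ∣ N.index := by
    refine Subgroup.card_dvd_of_injective ((QuotientGroup.mk' N).comp C.subtype) ?_
    rw [injective_iff_map_eq_one]
    intro c hc
    have h1 : (c : R ⧸ O) ∈ N := (QuotientGroup.eq_one_iff _).1 hc
    have h2 : (c : R ⧸ O) ∈ N ⊓ C := ⟨h1, c.2⟩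
    rw [hdis, mem_bot] at h2
    exact Subtype.ext h2
  apply h.sq'
  rw [pow_two, ← Subgroup.card_mul_index N]
  exact Nat.mul_dvd_mul h.dvd (hd.trans hdvd)

/-- `Out N = 1` : `N` is everything -/
theorem eq_top_of_out (h : Top R r O N) (hna : ¬ ∀ a b : N, a * b = b * a) (hO : Nat.card (Cfsg.Out N) = 1) :
    N = ⊤ := by
  have hN := h.normal
  rw [eq_top_iff]
  intro g _
  obtain ⟨n, hn⟩ := exists_conj hO (MulAut.conjNormal g : MulAut N)
  have h1 : (n : R ⧸ O)⁻¹ * g ∈ centralizer (N : Set (R ⧸ O)) := by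
    rw [mem_centralizer_iff]
    intro x hx
    have h2 : g * x * g⁻¹ = n * x * (n : R ⧸ O)⁻¹ := congrArg Subtype.val (hn ⟨x, hx⟩)
    calc x * ((n : R ⧸ O)⁻¹ * g) = (n : R ⧸ O)⁻¹ * (n * x * (n : R ⧸ O)⁻¹) * g := by group
      _ = (n : R ⧸ O)⁻¹ * (g * x * g⁻¹) * g := by rw [h2]
      _ = _ := by group
  rw [centralizer_eq_bot h hna, mem_bot] at h1
  have h2 : g = n := by
    calc g = (n : R ⧸ O) * ((n : R ⧸ O)⁻¹ * g) := by group
      _ = n := by rw [h1, mul_one]
  rw [h2]
  exact n.2

theorem out_m23 {G : Type*} [Group G] (h : Spor.IsoM23 G) : Nat.card (Cfsg.Out G) = 1 := by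
  obtain ⟨e⟩ := h
  rw [card_out_congr e, S2063.result]

theorem out_m24 {G : Type*} [Group G] (h : Spor.IsoM24 G) : Nat.card (Cfsg.Out G) = 1 := by
  obtain ⟨e⟩ := h
  rw [card_out_congr e, S2064.result]

/-- the orders of the elements of `R` if the core is trivial and `Out N = 1` -/
theorem not_order (h : Top R r O N) (hna : ¬ ∀ a b : N, a * b = b * a) (hO : Nat.card (Cfsg.Out N) = 1)
    (hO1 : ∀ s : ℕ, s.Prime → ¬ s ∣ Nat.card O) {k : ℕ} (hk : ∀ y : N, orderOf y ≠ k) (z : R) : orderOf z ≠ k := by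
  intro hz
  have hN := h.normal
  obtain ⟨y, hy⟩ := exists_of_top (O := O) (N := N) (by
    rw [eq_bot_of_not_dvd hO1, Subgroup.card_bot]; exact Nat.coprime_one_right k) (by
    rw [eq_top_of_out h hna hO, Subgroup.index_top]; exact Nat.coprime_one_right k) hz
  exact hk y hy

end

/-- the numeric condition for a trivial core -/
def okAll (l : List (ℕ × ℕ)) (r : ℕ) : Bool := l.all fun x => Nat.beq x.1 r || okPow l r x.1

section

variable {T : Type u} [Group T] [Finite T] {n : ℕ} {l : List (ℕ × ℕ)} {r : ℕ} {R : Subgroup T}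
  {O : Subgroup R} [O.Normal] {N : Subgroup (R ⧸ O)}

omit [Finite T] in
theorem card_core_dvd (S : SitB T n l r R) : Nat.card O ∣ n :=
  (Subgroup.card_subgroup_dvd_card O).trans S.dvd_n

/-- `r` is adjacent to no prime: the core is trivial -/
theorem core_trivial (S : SitB T n l r R) (h : _root_.Cfsg.Agent.H257.El.Top R r O N)
    (hno : ∀ s : ℕ, s.Prime → r ≠ s → ∀ z : T, orderOf z ≠ r * s) (hok : okAll l r = true) (s : ℕ) (hs : s.Prime) :
    ¬ s ∣ Nat.card O := by
  intro hd
  have hrs : r ≠ s := by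
    rintro rfl
    exact h.core hd
  obtain ⟨k, hk, -⟩ := exists_pair S.valid hs le_rfl (by rw [pow_one]; exact hd.trans (card_core_dvd S))
  unfold okAll at hok
  rw [List.all_eq_true] at hok
  have h1 := hok _ hk
  rw [Bool.or_eq_true] at h1
  rcases h1 with h1 | h1
  · exact hrs (Nat.eq_of_beq_eq_true h1).symm
  · exact S.not_dvd_core h hs hrs (hno s hs hrs) h1 hd

/-- all the elements of `R` are in `N` : two missing orders -/
theorem not_order_of (S : SitB T n l r R) (h : _root_.Cfsg.Agent.H257.El.Top R r O N) (hna : ¬ ∀ a b : N, a * b = b * a)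
    (hO : Nat.card (Cfsg.Out N) = 1) (hno : ∀ s : ℕ, s.Prime → r ≠ s → ∀ z : T, orderOf z ≠ r * s)
    (hok : okAll l r = true) {k : ℕ} (hk : ∀ y : N, orderOf y ≠ k) (z : R) : orderOf z ≠ k :=
  not_order h hna hO (core_trivial S h hno hok) hk z

end

end Cfsg.Agent.H870.Der
end
end

-- part: H257/El/SC
section
set_option linter.all false
open scoped Cfsg.Agent.FastGrp

/-!
# Numerical criteria for `¬ SC T v` (helper257)

* `not_SC_of_mod` : `v ∥ |T| = n`, `|Out T| ≤ o`, `o * ((n / v) % v) < v - 1`;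
* `Three.of_comm` : a missing element of order `p` commuting with elements of orders `q₁ ≠ q₂` prime to `p`.
-/

set_option autoImplicit false

namespace Cfsg.Agent.H257.El

open Subgroup
open Cfsg.Agent.H439.Der

variable {T : Type*} [Group T]

theorem SC.noOrd [Finite T] {v : ℕ} (hv : v.Prime) (h : SC T v) (p : ℕ) (hp : p.Prime) (z : T) :
    orderOf z ≠ v * p := by
  intro hz
  refine not_SC_of_orderOf hv (y := z) (by rw [hz]; exact dvd_mul_right _ _) ?_ h
  rw [hz]
  intro h1
  have := hv.pos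
  have := hp.one_lt
  nlinarith

/-- **Numerical form.** -/
theorem not_SC_of_mod [Finite T] {v n o : ℕ} (hv : v.Prime) (hn : Nat.card T = n) (hd : v ∣ n) (h2 : ¬ v ^ 2 ∣ n)
    (hne : n ≠ v) (hO : Nat.card (Cfsg.Out T) ≤ o) (hlt : o * ((n / v) % v) < v - 1) : ¬ SC T v := by
  intro hs
  have hv' : Fact v.Prime := ⟨hv⟩
  subst hn
  obtain ⟨x, hx⟩ := exists_prime_orderOf_dvd_card' v hd
  have hc := card_cent_of_noOrd hv h2 (fun p hp _ => SC.noOrd hv hs p hp) hx
  have hN := (card_norm_mod hv h2 hne hc).1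
  exact not_SC_of_lt hv hx hc (hN.trans (mul_comm _ _)).le hO hlt hs

/-- boolean form -/
def chkSC (n v o : ℕ) : Bool := (n % v == 0) && (n % v ^ 2 != 0) && (n != v) && Nat.blt (o * ((n / v) % v)) (v - 1)

theorem not_SC_of_chk [Finite T] {v n o : ℕ} (hv : v.Prime) (hn : Nat.card T = n) (hO : Nat.card (Cfsg.Out T) ≤ o)
    (h : chkSC n v o = true) : ¬ SC T v := by
  unfold chkSC at h
  simp only [Bool.and_eq_true] at h
  obtain ⟨⟨⟨h1, h2⟩, h3⟩, h4⟩ := h
  refine not_SC_of_mod hv hn (Nat.dvd_of_mod_eq_zero (by simpa using h1)) (fun h => ?_) (by simpa using h3) hO ?_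
  · rw [Nat.mod_eq_zero_of_dvd h] at h2
    exact absurd h2 (by decide)
  · simpa [Nat.blt_eq] using h4

theorem orderOf_mul_coprime {x y : T} {p q : ℕ} (hx : orderOf x = p) (hy : orderOf y = q) (hpq : Nat.Coprime p q)
    (hc : x * y = y * x) : orderOf (x * y) = p * q := by
  rw [(show Commute x y from hc).orderOf_mul_eq_mul_orderOf_of_coprime (by rwa [hx, hy]), hx, hy]

/-- a power of `x * y` is `x` -/
theorem mem_zpowers_mul_of_comm {x y : T} {p q : ℕ} (hx : orderOf x = p) (hy : orderOf y = q) (hpq : Nat.Coprime p q)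
    (hc : x * y = y * x) : x ∈ zpowers (x * y) := by
  have h1 : (x * y) ^ q = x ^ q := by
    rw [(show Commute x y from hc).mul_pow, ← hy, pow_orderOf_eq_one, mul_one]
  have h2 : x ∈ zpowers (x ^ q) := by
    rw [mem_zpowers_iff]
    refine ⟨Nat.gcdB p q, ?_⟩
    rw [← zpow_natCast, ← zpow_mul]
    have h3 := Nat.gcd_eq_gcd_ab p q
    rw [Nat.coprime_iff_gcd_eq_one.1 hpq] at h3
    have h4 : (q : ℤ) * Nat.gcdB p q = 1 - p * Nat.gcdA p q := by push_cast at h3; linarith
    rw [h4, zpow_sub, zpow_one, zpow_mul, zpow_natCast, ← hx, pow_orderOf_eq_one, one_zpow, inv_one, mul_one]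
  rw [← h1] at h2
  exact (zpowers_le.2 (pow_mem (mem_zpowers _) _)) h2

theorem not_mem_of_zpowers {R : Subgroup T} {x z : T} (hx : ∀ φ : T ≃* T, φ x ∉ R) (h : x ∈ zpowers z)
    (φ : T ≃* T) : φ z ∉ R := by
  intro hz
  obtain ⟨j, rfl⟩ := mem_zpowers_iff.1 h
  apply hx φ
  rw [map_zpow]
  exact zpow_mem hz j

/-- a missing element `y` of order `p` commuting with elements of orders `q₁ ≠ q₂` -/
theorem Three.of_comm {R : Subgroup T} {y s t : T} {p q₁ q₂ : ℕ} (hy : orderOf y = p) (hs : orderOf s = q₁)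
    (ht : orderOf t = q₂) (hp : 0 < p) (h1 : Nat.Coprime p q₁) (h2 : Nat.Coprime p q₂) (hq₁ : q₁ ≠ 1) (hq₂ : q₂ ≠ 1)
    (hq : q₁ ≠ q₂) (hys : y * s = s * y) (hyt : y * t = t * y) (hR : ∀ φ : T ≃* T, φ y ∉ R) : Three T R := by
  have hos := orderOf_mul_coprime hy hs h1 hys
  have hot := orderOf_mul_coprime hy ht h2 hyt
  have key : ∀ q : ℕ, q ≠ 1 → p ≠ p * q := fun q hq h => hq (Nat.eq_of_mul_eq_mul_left hp (by omega : p * q = p * 1))
  refine ⟨y, y * s, y * t, hR, not_mem_of_zpowers hR (mem_zpowers_mul_of_comm hy hs h1 hys),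
    not_mem_of_zpowers hR (mem_zpowers_mul_of_comm hy ht h2 hyt), fun φ hφ => ?_, fun φ hφ => ?_, fun φ hφ => ?_⟩
  · apply key q₁ hq₁
    rw [← hos, ← hφ, Cfsg.Agent.H938.Sax.orderOf_mulEquiv, hy]
  · apply key q₂ hq₂
    rw [← hot, ← hφ, Cfsg.Agent.H938.Sax.orderOf_mulEquiv, hy]
  · have h3 : orderOf (y * s) = orderOf (y * t) := by rw [← hφ, Cfsg.Agent.H938.Sax.orderOf_mulEquiv]
    rw [hos, hot] at h3
    exact hq (Nat.eq_of_mul_eq_mul_left hp h3)

end Cfsg.Agent.H257.El
end

-- part: H870/Der/Tool3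
section
set_option linter.all false
open scoped Cfsg.Agent.FastGrp

/-!
# S3500, S3502: tools for the rows with three classes (helper870)
-/

set_option autoImplicit false

namespace Cfsg.Agent.H870.Der

open Subgroup Cfsg.Agent.H439.Der Cfsg.Agent.H257.El Cfsg.Agent.OrdDiv

universe u

variable {T : Type u} [Group T] [Finite T] {n : ℕ} {l : List (ℕ × ℕ)} {r : ℕ} {R : Subgroup T}

/-- no simple group of order divisible by `r` and `s`: then `s` does not divide `|R|` -/
theorem SitB.not_dvd (S : SitB T n l r R) {s : ℕ} (hs : s.Prime) (hrs : r ≠ s)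
    (hno : ∀ z : T, orderOf z ≠ r * s) (hok : okPair n l r s = true) (h0 : surv n l r [s] = []) :
    ¬ s ∣ Nat.card R := by
  intro hd
  obtain ⟨O, hO, N, -, g, hg, -⟩ := S.exists_name hs hrs hno hok hd
  rw [h0] at hg
  exact absurd hg (List.not_mem_nil)

/-- the boolean for `not_dvd_of_pair` -/
def okPr (n : ℕ) (l : List (ℕ × ℕ)) (r s : ℕ) : Bool :=
  valid l n && (n % r ^ 2 != 0) && (r != s) && okPair n l r s && (surv n l r [s]).isEmpty

/-- **two primes which do not both divide the order of a proper subgroup** -/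
theorem not_dvd_of_pair (tab : OrderTable.{u}) (known : Known.{u}) (hc : Nat.card T = n) {s : ℕ} (hr : r.Prime)
    (hs : s.Prime) (hno : ∀ z : T, orderOf z ≠ r * s) (hok : okPr n l r s = true) (hR : R ≠ ⊤)
    (hd : r ∣ Nat.card R) : ¬ s ∣ Nat.card R := by
  unfold okPr at hok
  simp only [Bool.and_eq_true] at hok
  obtain ⟨⟨⟨⟨h1, h2⟩, h3⟩, h4⟩, h5⟩ := hok
  have h2' : ¬ r ^ 2 ∣ n := by
    intro h
    rw [Nat.mod_eq_zero_of_dvd h] at h2
    exact absurd h2 (by decide)
  exact SitB.not_dvd (⟨tab, known, hc, h1, hr, hd, h2', hR⟩ : SitB T n l r R) hs (by simpa using h3) hno h4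
    (List.isEmpty_iff.1 h5)

/-- `SC` does not hold, numerically -/
theorem not_SC_chk {v o : ℕ} (hv : v.Prime) (hn : Nat.card T = n) (hO : Nat.card (Cfsg.Out T) = o)
    (h : chkSC n v o = true) : ¬ SC T v := not_SC_of_chk hv hn hO.le h

end Cfsg.Agent.H870.Der
end

-- part: H870/Der/Cop
section
set_option linter.all false
open scoped Cfsg.Agent.FastGrp

/-!
# Coprime lifting for elements of prime order (helper870)

`O` normal in `R`, `p ∤ |O|`, `x` of order `p`:
* `exists_lift_eq` : an element of order `p` of `R ⧸ O` lifts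
* `exists_lift_conj` : `g x g⁻¹ = x ^ k` modulo `O` lifts
* `card_cent_quot_dvd`, `card_norm_quot_dvd`
* `fus_card_le` : Sylow counting in subgroups
* `card_inf_modEq` : an element of order `r` normalising `P`
-/

set_option autoImplicit false

namespace Cfsg.Agent.H870.Der.Cop

open Subgroup Cfsg.Agent.H439.Der Cfsg.Agent.H257.El Cfsg.Agent.OrdDiv Cfsg.Agent.H870.Der
open Cfsg.Agent.H713.Count Cfsg.Agent.H713

section

variable {R : Type*} [Group R] {O : Subgroup R} [O.Normal] {p : ℕ}

/-- elements of order `p` lift -/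
theorem exists_lift_eq [Finite R] (hp : p.Prime) (hO : ¬ p ∣ Nat.card O) {q : R ⧸ O} (hq : orderOf q = p) :
    ∃ x : R, orderOf x = p ∧ QuotientGroup.mk' O x = q := by
  have := Fact.mk hp
  obtain ⟨y, rfl⟩ := QuotientGroup.mk'_surjective O q
  have hcop : Nat.Coprime p (Nat.card O) := (Nat.Prime.coprime_iff_not_dvd hp).2 hO
  obtain ⟨k, hk1, hk2⟩ := Nat.chineseRemainder hcop 1 0
  have hyO : y ^ p ∈ O := by
    have h1 : QuotientGroup.mk' O (y ^ p) = 1 := by rw [map_pow, ← hq, pow_orderOf_eq_one]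
    exact (QuotientGroup.eq_one_iff _).1 h1
  have h1 : QuotientGroup.mk' O (y ^ k) = QuotientGroup.mk' O y := by
    rw [map_pow]
    conv_rhs => rw [← pow_one (QuotientGroup.mk' O y)]
    rw [pow_eq_pow_iff_modEq, hq]
    exact hk1
  refine ⟨y ^ k, orderOf_eq_prime ?_ ?_, h1⟩
  · obtain ⟨j, rfl⟩ := (Nat.modEq_zero_iff_dvd.1 hk2)
    rw [← pow_mul, mul_comm, mul_comm (Nat.card O), ← mul_assoc, pow_mul, pow_mul]
    have h2 : (⟨y ^ p, hyO⟩ : O) ^ Nat.card O = 1 := pow_card_eq_one'
    have h3 : (y ^ p) ^ Nat.card O = 1 := congrArg Subtype.val h2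
    rw [pow_right_comm, h3, one_pow]
  · intro h2
    rw [h2, map_one] at h1
    rw [← h1, orderOf_one] at hq
    exact hp.one_lt.ne hq

/-- the order of the image -/
theorem orderOf_mk (hp : p.Prime) (hO : ¬ p ∣ Nat.card O) {x : R} (hx : orderOf x = p) :
    orderOf (QuotientGroup.mk' O x) = p := by
  have h1 : orderOf (QuotientGroup.mk' O x) ∣ p := by rw [← hx]; exact orderOf_map_dvd _ _
  rcases (Nat.dvd_prime hp).1 h1 with h2 | h2
  · exfalso
    apply hO
    have h3 : x ∈ O := (QuotientGroup.eq_one_iff x).1 (orderOf_eq_one_iff.1 h2)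
    rw [← hx, ← Subgroup.orderOf_mk x h3]
    exact _root_.orderOf_dvd_natCard _
  · exact h2

/-- the order of a preimage -/
theorem card_comap (M : Subgroup (R ⧸ O)) [Finite R] :
    Nat.card (M.comap (QuotientGroup.mk' O)) = Nat.card M * Nat.card O := by
  have h1 := Subgroup.card_mul_index (M.comap (QuotientGroup.mk' O))
  have h3 : (M.comap (QuotientGroup.mk' O)).index = M.index :=
    Subgroup.index_comap_of_surjective M (QuotientGroup.mk'_surjective O)
  have h4 := Subgroup.card_mul_index M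
  have h5 := card_quot_mul O
  rw [h3] at h1
  have h6 : 0 < M.index := Nat.pos_of_ne_zero M.index_ne_zero_of_finite
  apply Nat.eq_of_mul_eq_mul_right h6
  rw [h1, ← h5, ← h4]
  ring

/-- **conjugations between powers of an element of prime order lift** -/
theorem exists_lift_conj [Finite R] (hp : p.Prime) (hO : ¬ p ∣ Nat.card O) {x : R} (hx : orderOf x = p) {k : ℕ} {g : R}
    (h : QuotientGroup.mk' O g * QuotientGroup.mk' O x * (QuotientGroup.mk' O g)⁻¹ = (QuotientGroup.mk' O x) ^ k) :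
    ∃ g' : R, QuotientGroup.mk' O g' = QuotientGroup.mk' O g ∧ g' * x * g'⁻¹ = x ^ k := by
  have hpf := Fact.mk hp
  set f := QuotientGroup.mk' O with hf
  have hfx := orderOf_mk hp hO hx
  rw [← hf] at hfx
  set K : Subgroup R := (zpowers (f x)).comap f with hK
  have hKc : Nat.card K = p * Nat.card O := by
    rw [hK, card_comap, Nat.card_zpowers, hfx]
  have hK2 : ¬ p ^ 2 ∣ Nat.card K := by
    rw [hKc, pow_two]
    intro h2
    exact hO (Nat.dvd_of_mul_dvd_mul_left hp.pos h2)
  have hxK : x ∈ K := mem_zpowers (f x)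
  have hyK : g * x * g⁻¹ ∈ K := by
    rw [hK, mem_comap, map_mul, map_mul, map_inv, h]
    exact npow_mem_zpowers _ _
  have hcx : Nat.card (zpowers (⟨x, hxK⟩ : K)) = p := by
    rw [Nat.card_zpowers, Subgroup.orderOf_mk, hx]
  have hcy : Nat.card (zpowers (⟨g * x * g⁻¹, hyK⟩ : K)) = p := by
    rw [Nat.card_zpowers, Subgroup.orderOf_mk, orderOf_conj, hx]
  obtain ⟨u, hu⟩ := H836.Sylow.conj_of_card hp hK2 hcy hcx
  -- `u (g x g⁻¹) u⁻¹ ∈ ⟨x⟩`
  have h1 : (u : R) * (g * x * g⁻¹) * (u : R)⁻¹ ∈ zpowers x := by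
    have h2 : u * (⟨g * x * g⁻¹, hyK⟩ : K) * u⁻¹ ∈ zpowers (⟨x, hxK⟩ : K) := by
      rw [← hu]
      exact ⟨_, mem_zpowers _, rfl⟩
    obtain ⟨j, hj⟩ := mem_zpowers_iff.1 h2
    exact mem_zpowers_iff.2 ⟨j, by have := congrArg Subtype.val hj; simpa only [_root_.SubgroupClass.coe_zpow, _root_.Subgroup.coe_mul, _root_.InvMemClass.coe_inv] using this⟩
  obtain ⟨j, hj⟩ := mem_zpowers_iff.1 (show f (u : R) ∈ zpowers (f x) from u.2)
  obtain ⟨m, hm⟩ := mem_zpowers_iff.1 h1
  refine ⟨x ^ (-j) * u * g, ?_, ?_⟩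
  · rw [map_mul, map_mul, map_zpow, ← hj, ← zpow_add, neg_add_cancel, zpow_zero, one_mul]
  · have h2 : x ^ (-j) * u * g * x * (x ^ (-j) * u * g)⁻¹ = x ^ m := by
      calc x ^ (-j) * u * g * x * (x ^ (-j) * u * g)⁻¹ = x ^ (-j) * (u * (g * x * g⁻¹) * (u : R)⁻¹) * (x ^ (-j))⁻¹ := by
            group
        _ = x ^ m := by rw [← hm]; group
    rw [h2]
    have h3 : f (x ^ m) = f (x ^ k) := by
      rw [← h2, map_pow, ← h]
      simp only [map_mul, map_inv, map_zpow, ← hj]
      group
    rw [map_zpow, map_pow, ← zpow_natCast, zpow_eq_zpow_iff_modEq, hfx] at h3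
    rw [← zpow_natCast, zpow_eq_zpow_iff_modEq, hx]
    exact h3

/-- **the centralizer in the quotient** -/
theorem card_cent_quot_dvd [Finite R] (hp : p.Prime) (hO : ¬ p ∣ Nat.card O) {x : R} (hx : orderOf x = p) :
    Nat.card (centralizer ({QuotientGroup.mk' O x} : Set (R ⧸ O))) ∣ Nat.card (centralizer ({x} : Set R)) := by
  let φ : centralizer ({x} : Set R) →* centralizer ({QuotientGroup.mk' O x} : Set (R ⧸ O)) :=
    ((QuotientGroup.mk' O).comp (centralizer ({x} : Set R)).subtype).codRestrict _ fun c => by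
      rw [mem_centralizer_singleton_iff]
      show QuotientGroup.mk' O c * QuotientGroup.mk' O x = QuotientGroup.mk' O x * QuotientGroup.mk' O c
      rw [← map_mul, mem_centralizer_singleton_iff.1 c.2, map_mul]
  refine Subgroup.card_dvd_of_surjective φ fun q => ?_
  obtain ⟨g, hg⟩ := QuotientGroup.mk'_surjective O (q : R ⧸ O)
  have hq := mem_centralizer_singleton_iff.1 q.2
  rw [← hg] at hq
  obtain ⟨g', h1, h2⟩ := exists_lift_conj hp hO hx (k := 1) (g := g) (by rw [hq, pow_one, mul_inv_cancel_right])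
  rw [pow_one] at h2
  refine ⟨⟨g', mem_centralizer_singleton_iff.2 (mul_inv_eq_iff_eq_mul.1 h2)⟩, ?_⟩
  apply Subtype.ext
  show QuotientGroup.mk' O g' = q
  rw [h1, hg]

/-- **the normalizer in the quotient** -/
theorem card_norm_quot_dvd [Finite R] (hp : p.Prime) (hO : ¬ p ∣ Nat.card O) {x : R} (hx : orderOf x = p) :
    Nat.card (normalizer (zpowers (QuotientGroup.mk' O x) : Set (R ⧸ O))) ∣
      Nat.card (normalizer (zpowers x : Set R)) := by
  let φ : normalizer (zpowers x : Set R) →* normalizer (zpowers (QuotientGroup.mk' O x) : Set (R ⧸ O)) :=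
    ((QuotientGroup.mk' O).comp (normalizer (zpowers x : Set R)).subtype).codRestrict _ fun c => by
      apply mem_normalizer_of
      have h1 : (c : R) * x * (c : R)⁻¹ ∈ zpowers x := (Subgroup.mem_normalizer_iff.1 c.2 x).1 (mem_zpowers x)
      obtain ⟨j, hj⟩ := mem_zpowers_iff.1 h1
      refine mem_zpowers_iff.2 ⟨j, ?_⟩
      show _ = QuotientGroup.mk' O c * QuotientGroup.mk' O x * (QuotientGroup.mk' O c)⁻¹
      rw [← map_zpow, hj, map_mul, map_mul, map_inv]
  refine Subgroup.card_dvd_of_surjective φ fun q => ?_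
  obtain ⟨g, hg⟩ := QuotientGroup.mk'_surjective O (q : R ⧸ O)
  have hq : (q : R ⧸ O) * QuotientGroup.mk' O x * (q : R ⧸ O)⁻¹ ∈ zpowers (QuotientGroup.mk' O x) :=
    (Subgroup.mem_normalizer_iff.1 q.2 _).1 (mem_zpowers _)
  rw [← hg] at hq
  obtain ⟨k, hk⟩ := (mem_powers_iff_mem_zpowers.2 hq : _ ∈ Submonoid.powers (QuotientGroup.mk' O x))
  have hk : (QuotientGroup.mk' O x) ^ k =
      QuotientGroup.mk' O g * QuotientGroup.mk' O x * (QuotientGroup.mk' O g)⁻¹ := hk
  obtain ⟨g', h1, h2⟩ := exists_lift_conj hp hO hx (k := k) (g := g) hk.symm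
  refine ⟨⟨g', mem_normalizer_of (by rw [h2]; exact npow_mem_zpowers _ _)⟩, ?_⟩
  apply Subtype.ext
  show QuotientGroup.mk' O g' = q
  rw [h1, hg]

end

/-! ### subgroups -/

section

variable {T : Type*} [Group T] {p : ℕ}

theorem card_cent_sub_dvd {R : Subgroup T} (x : R) :
    Nat.card (centralizer ({x} : Set R)) ∣ Nat.card (centralizer ({(x : T)} : Set T)) := by
  refine Subgroup.card_dvd_of_injective ((R.subtype.comp (centralizer ({x} : Set R)).subtype).codRestrict _ fun c => ?_)
    fun a b h => ?_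
  · rw [mem_centralizer_singleton_iff]
    exact congrArg Subtype.val (mem_centralizer_singleton_iff.1 c.2)
  · have h1 := congrArg Subtype.val h
    exact Subtype.ext (Subtype.ext h1)

theorem card_norm_sub_dvd [Finite T] {R : Subgroup T} (x : R) :
    Nat.card (normalizer (zpowers x : Set R)) ∣ Nat.card (normalizer (zpowers (x : T) : Set T)) := by
  refine Subgroup.card_dvd_of_injective ((R.subtype.comp (normalizer (zpowers x : Set R)).subtype).codRestrict _
    fun c => ?_) fun a b h => ?_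
  · apply mem_normalizer_of
    have h1 : (c : R) * x * (c : R)⁻¹ ∈ zpowers x := (Subgroup.mem_normalizer_iff.1 c.2 x).1 (mem_zpowers x)
    obtain ⟨j, hj⟩ := mem_zpowers_iff.1 h1
    exact mem_zpowers_iff.2 ⟨j, by have := congrArg Subtype.val hj; simpa only [_root_.MonoidHom.coe_comp, _root_.Subgroup.coe_subtype, _root_.Function.comp_apply, _root_.SubgroupClass.coe_zpow, _root_.Subgroup.coe_mul, _root_.InvMemClass.coe_inv] using this⟩
  · have h1 := congrArg Subtype.val h
    exact Subtype.ext (Subtype.ext h1)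

theorem fus_subset [Fact p.Prime] {R : Subgroup T} (x : R) : fus (p := p) x ⊆ fus (p := p) (x : T) := by
  intro m hm
  rw [mem_fus] at hm ⊢
  refine ⟨hm.1, ?_⟩
  have := hm.2
  rw [isConj_iff] at this ⊢
  obtain ⟨c, hc⟩ := this
  exact ⟨c, by have := congrArg Subtype.val hc; simpa only [_root_.Subgroup.coe_mul, _root_.InvMemClass.coe_inv, _root_.SubmonoidClass.coe_pow] using this⟩

/-- **Sylow counting**: `|C(x)| = p c`, `f c ≡ |G| / p`, `f ∣ p - 1` -/
theorem count {G : Type*} [Group G] [Finite G] [hp : Fact p.Prime] (h1 : p ∣ Nat.card G) (h2 : ¬ p ^ 2 ∣ Nat.card G) {x : G}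
    (hx : orderOf x = p) : ∃ c, Nat.card (centralizer ({x} : Set G)) = p * c ∧
      (fus (p := p) x).card ∣ p - 1 ∧ (fus (p := p) x).card * c ≡ Nat.card G / p [MOD p] := by
  have hf : (Nat.card G).factorization p = 1 := by
    apply le_antisymm
    · by_contra hc
      exact h2 ((hp.out.pow_dvd_iff_le_factorization Nat.card_pos.ne').2 (by omega))
    · exact (hp.out.pow_dvd_iff_le_factorization (k := 1) Nat.card_pos.ne').1 (by rwa [pow_one])
  obtain ⟨c, hc⟩ : p ∣ Nat.card (centralizer ({x} : Set G)) := by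
    have h3 : x ∈ centralizer ({x} : Set G) := mem_centralizer_singleton_iff.2 rfl
    have h4 := Subgroup.orderOf_dvd_natCard _ h3
    rwa [hx] at h4
  exact ⟨c, hc, card_fus_dvd (by rw [← hx, pow_orderOf_eq_one]), card_fus_mul hf hx hc⟩

/-- an element of order `r` normalising a subgroup -/
theorem card_inf_modEq [Finite T] {r : ℕ} (hr : r.Prime) {y : T} (hy : orderOf y = r) {P : Subgroup T}
    (hyP : y ∈ normalizer (P : Set T)) :
    Nat.card P ≡ Nat.card ↥(P ⊓ centralizer ({y} : Set T)) [MOD r] := by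
  have hconj : ∀ w : T, w ∈ P ↔ y * w * y⁻¹ ∈ P := mem_normalizer_iff.1 hyP
  let f : Equiv.Perm P :=
    { toFun := fun w => ⟨y * w * y⁻¹, (hconj w).1 w.2⟩
      invFun := fun w => ⟨y⁻¹ * w * y, (hconj _).2 (by simp only [mul_assoc, _root_.mul_inv_cancel_left, _root_.mul_inv_cancel, _root_.mul_one, _root_.SetLike.coe_mem])⟩
      left_inv := fun w => Subtype.ext (by simp [mul_assoc])
      right_inv := fun w => Subtype.ext (by simp [mul_assoc]) }
  have hfk : ∀ k : ℕ, ∀ w : P, (((f ^ k) w : P) : T) = y ^ k * w * (y ^ k)⁻¹ := by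
    intro k
    induction k with
    | zero => intro w; simp
    | succ k ih =>
      intro w
      rw [pow_succ', Equiv.Perm.mul_apply]
      show y * ((f ^ k) w : P) * y⁻¹ = _
      rw [ih, pow_succ']
      group
  have hf : f ^ r = 1 := by
    ext w
    rw [hfk, ← hy, pow_orderOf_eq_one]
    simp
  have h6 := Cfsg.Agent.H361.SelfCent.card_modEq_of_perm hr f hf
  have h7 : Nat.card {a : P // f a = a} = Nat.card ↥(P ⊓ centralizer ({y} : Set T)) := by
    refine Nat.card_congr
      { toFun := fun a => ⟨(a : P), a.1.2, ?_⟩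
        invFun := fun a => ⟨⟨a, a.2.1⟩, ?_⟩
        left_inv := fun a => rfl
        right_inv := fun a => rfl }
    · refine mem_centralizer_singleton_iff.2 ?_
      have h8 : y * (a : P) * y⁻¹ = (a : P) := congrArg Subtype.val a.2
      calc ((a : P) : T) * y = (y * (a : P) * y⁻¹) * y := by rw [h8]
        _ = _ := by group
    · apply Subtype.ext
      have h8 := mem_centralizer_singleton_iff.1 a.2.2
      show y * (a : T) * y⁻¹ = a
      rw [← h8, mul_inv_cancel_right]
  rw [← h7]
  exact h6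

end

end Cfsg.Agent.H870.Der.Cop
end
end
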